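import Cfsg.Agent.H804.Ext.Frame
import Cfsg.Agent.H53.HC.ExcIM
import Cfsg.Agent.CpAut.RgdUntw
import Cfsg.Agent.KFacts.RgdChevCoord
import Cfsg.Agent.H70.OutE
import Cfsg.Agent.S1054
import Cfsg.Agent.FastGrp
import Cfsg.Agent.Prune
set_option linter.all false
prune_inst 0x7f00000000000000000000000000000000000000000000000000000000000000000000000000000000000000000000000000000000000000000000000000000000000000000000000000000000000000003fffffffffffffffffffffffffffbeffbdffffffff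
open scoped Cfsg.Agent.FastGrp

-- part: H804/Ext/CoOf
section
/-!
# Coordinates of a rank one group (helper804, S4832)

`ker_le_center`, `co_of` : a homomorphism `SL_2(F) → Y` onto the root groups of a node has central kernel.
-/

set_option autoImplicit false
set_option linter.unusedSectionVars false

open Cfsg

namespace Cfsg.Agent.H804.Ext

open Matrix Cfsg.Agent.ChevalleyStructure.SL2Hom

section

variable {F : Type*} [Field F] {Y : Type*} [Group Y] {φ : _root_.Matrix.SpecialLinearGroup (Fin 2) F →* Y}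

theorem up_add (a b : F) : up a * up b = up (a + b) := by
  apply Subtype.ext
  change !![1, a; 0, 1] * !![1, b; 0, 1] = !![1, a + b; 0, 1]
  ext i j
  (revert i j; simp only [Matrix.mul_apply, Fin.sum_univ_two, add_comm, _root_.Fin.forall_fin_succ, _root_.Matrix.of_apply, _root_.Matrix.cons_val', _root_.Matrix.cons_val_fin_one, Fin.isValue, _root_.Matrix.cons_val_zero, _root_.Matrix.cons_val_one, _root_.mul_one, _root_.MulZeroClass.mul_zero, _root_.zero_add, _root_.Matrix.cons_val_succ, _root_.forall_const, _root_.true_and, _root_.one_mul, _root_.MulZeroClass.zero_mul, _root_.implies_true, _root_.and_self])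

theorem up_zero : up (0 : F) = 1 := by
  apply Subtype.ext
  change !![1, 0; 0, 1] = (1 : Matrix (Fin 2) (Fin 2) F)
  exact Matrix.one_fin_two.symm

theorem eq_up_mul {g : _root_.Matrix.SpecialLinearGroup (Fin 2) F} (hc : g.1 1 0 ≠ 0) :
    g = up (g.1 0 0 / g.1 1 0) * (up (-(g.1 1 0)⁻¹) * lo (g.1 1 0) * up (-(g.1 1 0)⁻¹)) * up (g.1 1 1 / g.1 1 0) := by
  apply Subtype.ext
  have hdet := g.2
  rw [Matrix.det_fin_two] at hdet
  change g.1 = !![1, g.1 0 0 / g.1 1 0; 0, 1] * (!![1, -(g.1 1 0)⁻¹; 0, 1] * !![1, 0; g.1 1 0, 1] *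
    !![1, -(g.1 1 0)⁻¹; 0, 1]) * !![1, g.1 1 1 / g.1 1 0; 0, 1]
  set a := g.1 0 0
  set b := g.1 0 1
  set c := g.1 1 0
  set d := g.1 1 1
  have h1 : g.1 = !![a, b; c, d] := Matrix.eta_fin_two g.1
  have h2 : b = (a * d - 1) / c := by
    field_simp
    linear_combination -hdet
  rw [h1, h2]
  ext i j
  fin_cases i <;> fin_cases j
  all_goals simp [Matrix.mul_apply, Fin.sum_univ_two, hc]
  all_goals try field_simp
  all_goals try ring

theorem nup' (c : F) (hc : c ≠ 0) : (up (-c⁻¹) * lo c * up (-c⁻¹)) * up 1 = lo (-(c * c)) * (up (-c⁻¹) * lo c * up (-c⁻¹)) := by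
  have h1 := nup (-c⁻¹) (neg_ne_zero.2 (inv_ne_zero hc))
  have e0 : -(-c⁻¹)⁻¹ = c := by rw [inv_neg, inv_inv, neg_neg]
  have e0' : (-c⁻¹)⁻¹ = -c := by rw [inv_neg, inv_inv]
  rw [e0, e0', neg_mul_neg] at h1
  exact h1

/-- the kernel is central -/
theorem ker_le_center (hinj : Function.Injective fun a : F => φ (up a)) {P Q : Subgroup Y}
    (hP : ∀ a, φ (up a) ∈ P) (hQ : ∀ b, φ (lo b) ∈ Q) (hPQ : P ⊓ Q = ⊥) :
    φ.ker ≤ Subgroup.center (_root_.Matrix.SpecialLinearGroup (Fin 2) F) := by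
  have hup : ∀ a : F, up a ∈ φ.ker → a = 0 := by
    intro a ha
    apply hinj
    change φ (up a) = φ (up 0)
    rw [MonoidHom.mem_ker.1 ha, up_zero, map_one]
  intro g hg
  by_cases hc : g.1 1 0 = 0
  · -- upper triangular
    have hdet := g.2
    rw [Matrix.det_fin_two, hc, mul_zero, sub_zero] at hdet
    have ha0 : g.1 0 0 ≠ 0 := left_ne_zero_of_mul_eq_one hdet
    have hd : g.1 1 1 = (g.1 0 0)⁻¹ := eq_inv_of_mul_eq_one_right hdet
    have h1 : g.1 = !![g.1 0 0, g.1 0 1; 0, (g.1 0 0)⁻¹] := by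
      conv_lhs => rw [Matrix.eta_fin_two g.1, hc, hd]
    set a := g.1 0 0
    set b := g.1 0 1
    have h2 : g * up 1 * g⁻¹ * up (-1) ∈ φ.ker := by
      have h3 : g * up 1 * g⁻¹ * up (-1) = g * (up 1 * g⁻¹ * (up 1)⁻¹) := by
        have h4 : (up (1 : F))⁻¹ = up (-1) := by
          rw [inv_eq_iff_mul_eq_one, up_add, add_neg_cancel, up_zero]
        rw [h4]; group
      rw [h3]
      exact mul_mem hg ((MonoidHom.normal_ker φ).conj_mem _ (inv_mem hg) _)
    have h3 : g * up 1 * g⁻¹ * up (-1) = up (a ^ 2 - 1) := by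
      have h4 : g * up 1 = up (a ^ 2) * g := by
        apply Subtype.ext
        change g.1 * !![1, 1; 0, 1] = !![1, a ^ 2; 0, 1] * g.1
        rw [h1]
        ext i j
        fin_cases i <;> fin_cases j
        all_goals simp only [Matrix.mul_apply, Fin.sum_univ_two, _root_.Fin.zero_eta, _root_.Fin.isValue, _root_.Matrix.of_apply, _root_.Matrix.cons_val', _root_.Matrix.cons_val_fin_one, _root_.Matrix.cons_val_zero, _root_.mul_one, _root_.Matrix.cons_val_one, _root_.MulZeroClass.mul_zero, _root_.add_zero, _root_.one_mul, _root_.Fin.mk_one, _root_.MulZeroClass.zero_mul, _root_.zero_add]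
        all_goals try field_simp
        all_goals try ring
      rw [h4, mul_inv_cancel_right, up_add, sub_eq_add_neg]
    rw [h3] at h2
    have ha : a ^ 2 = 1 := sub_eq_zero.1 (hup _ h2)
    have ha' : a⁻¹ = a := by
      rw [inv_eq_iff_eq_inv, eq_comm]
      exact inv_eq_of_mul_eq_one_left (by rw [← sq, ha])
    have h4 : g * g = up (2 * (a * b)) := by
      apply Subtype.ext
      change g.1 * g.1 = !![1, 2 * (a * b); 0, 1]
      rw [h1, ha']
      ext i j
      fin_cases i <;> fin_cases j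
      all_goals simp only [Matrix.mul_apply, Fin.sum_univ_two, _root_.Fin.zero_eta, _root_.Fin.isValue, _root_.Matrix.of_apply, _root_.Matrix.cons_val', _root_.Matrix.cons_val_fin_one, _root_.Matrix.cons_val_zero, _root_.Matrix.cons_val_one, _root_.MulZeroClass.mul_zero, _root_.add_zero, _root_.Fin.mk_one, _root_.MulZeroClass.zero_mul, _root_.zero_add]
      all_goals try linear_combination ha
      all_goals try ring
    have h5 : 2 * (a * b) = 0 := hup _ (by rw [← h4]; exact mul_mem hg hg)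
    have hb : b = 0 := by
      by_cases h2 : (2 : F) = 0
      · have ha1 : a = 1 := by
          have : (a - 1) * (a - 1) = 0 := by linear_combination ha - (a - 1) * h2
          exact sub_eq_zero.1 (mul_self_eq_zero.1 this)
        have h6 : g = up b := by
          apply Subtype.ext
          change g.1 = !![1, b; 0, 1]
          rw [h1, ha', ha1]
        exact hup b (by rw [← h6]; exact hg)
      · rcases mul_eq_zero.1 h5 with h6 | h6
        · exact absurd h6 h2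
        · exact (mul_eq_zero.1 h6).resolve_left ha0
    rw [Matrix.SpecialLinearGroup.mem_center_iff]
    refine ⟨a, by rw [Fintype.card_fin, ha], ?_⟩
    rw [h1, ha', hb]
    ext i j
    (revert i j; simp only [_root_.Fin.forall_fin_succ, _root_.Matrix.scalar_apply, _root_.Matrix.of_apply, _root_.Matrix.cons_val', _root_.Matrix.cons_val_fin_one, Fin.isValue, _root_.Matrix.cons_val_zero, _root_.Matrix.cons_val_succ, _root_.Fin.succ_zero_eq_one, _root_.IsEmpty.forall_iff, _root_.and_true, _root_.Matrix.diagonal_apply_eq, _root_.ne_eq, _root_.zero_ne_one, _root_.not_false_eq_true, _root_.Matrix.diagonal_apply_ne, _root_.and_self, _root_.Fin.succ_ne_zero, _root_.true_and])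
  · exfalso
    have h1 := eq_up_mul hc
    generalize g.1 1 0 = c at h1 hc
    generalize g.1 0 0 = a at h1
    generalize g.1 1 1 = d at h1
    have h2 : φ (up (-c⁻¹) * lo c * up (-c⁻¹)) = φ (up (-(a / c) + -(d / c))) := by
      have h3 : φ g = 1 := hg
      rw [h1, map_mul, map_mul] at h3
      have h4 : φ (up (a / c)) * φ (up (-(a / c))) = 1 := by
        rw [← map_mul, up_add, add_neg_cancel, up_zero, map_one]
      have h5 : φ (up (-(d / c))) * φ (up (d / c)) = 1 := by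
        rw [← map_mul, up_add, neg_add_cancel, up_zero, map_one]
      have h6 : φ (up (a / c)) = (φ (up (-(a / c))))⁻¹ := eq_inv_of_mul_eq_one_left h4
      have h7 : φ (up (d / c)) = (φ (up (-(d / c))))⁻¹ := eq_inv_of_mul_eq_one_right h5
      rw [h6, h7] at h3
      rw [← up_add, map_mul φ (up (-(a / c)))]
      have h8 := mul_inv_eq_one.1 h3
      rw [← h8]; group
    have h3 := congrArg φ (nup' c hc)
    rw [map_mul, map_mul φ (lo _), h2, ← map_mul, up_add] at h3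
    have h4 : φ (lo (-(c * c))) = φ (up 1) := by
      have h5 : φ (up (-(a / c) + -(d / c) + 1)) = φ (up 1) * φ (up (-(a / c) + -(d / c))) := by
        rw [← map_mul, up_add]
        congr 2
        ring
      rw [h5] at h3
      exact (mul_right_cancel h3).symm
    have h5 : φ (up 1) ∈ P ⊓ Q := ⟨hP 1, by rw [← h4]; exact hQ _⟩
    rw [hPQ, Subgroup.mem_bot] at h5
    exact one_ne_zero (hup 1 h5)

end

section node

open CoxeterSystem Cfsg.Agent.ChevalleyStructure.CoxeterGeom Cfsg.Agent.Tits.Roots Cfsg.Agent.Tits.Core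
  Cfsg.Agent.Nodes.Reps Cfsg.Agent.Nodes.BNOf Cfsg.Agent.Nodes.RootsA Cfsg.Agent.Nodes.OppDec
open Cfsg.Agent.H622.Levi (Co cr cr_succ cr_neg)

variable {I W Y : Type*} [Fintype I] [DecidableEq I] [Group W] [Group Y] {M : CoxeterMatrix I}
  {cs : CoxeterSystem M W} {A : I → I → ℤ} {h : IsCartan M A} {p : ℕ} {T : Subgroup Y} {n : I → Y}
  {X : (I → ℤ) → Subgroup Y}

/-- **Coordinates for a node.** -/
theorem co_of [Finite W] (R : RGD cs h p T n X) {i : I} {F : Type} [Field F]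
    {φ : _root_.Matrix.SpecialLinearGroup (Fin 2) F →* Y} (hup : ∀ y, y ∈ X (sr i) ↔ ∃ a, φ (up a) = y)
    (hinj : Function.Injective fun a : F => φ (up a)) (hlo : ∀ y, y ∈ X (-sr i) ↔ ∃ b, φ (lo b) = y) :
    Co X (fun _ : Fin 1 => i) F φ := by
  have e01 : cr (fun _ : Fin 1 => i) 0 1 = sr i := cr_succ (fun _ : Fin 1 => i) 0
  have e10 : cr (fun _ : Fin 1 => i) 1 0 = -sr i := by rw [← e01, cr_neg]
  refine ⟨fun a b hab => ?_, ?_⟩
  · fin_cases a <;> fin_cases b
    · exact absurd rfl hab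
    · change (X (cr (fun _ : Fin 1 => i) 0 1) : Set Y) = Set.range fun t => φ (SpecialLinearGroup.transvection hab t)
      rw [e01]
      ext y
      rw [SetLike.mem_coe, hup, Set.mem_range]
      simp only [tr_up]
    · change (X (cr (fun _ : Fin 1 => i) 1 0) : Set Y) = Set.range fun t => φ (SpecialLinearGroup.transvection hab t)
      rw [e10]
      ext y
      rw [SetLike.mem_coe, hlo, Set.mem_range]
      simp only [tr_lo]
    · exact absurd rfl hab
  · refine ker_le_center hinj (P := X (sr i)) (Q := X (-sr i)) (fun a => (hup _).2 ⟨a, rfl⟩)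
      (fun b => (hlo _).2 ⟨b, rfl⟩) (X_inf_X R (isRoot_sr cs h i) (isRoot_sr cs h i).neg ?_)
    intro e
    have h1 := congrFun e i
    rw [Pi.neg_apply, sr_self] at h1
    omega

end node

end Cfsg.Agent.H804.Ext
end

-- part: H804/Ext/RowsE
section
/-!
# S4832: the rows `E₆(q)`, `E₇(q)` (helper804)

`hasExt_E6`, `hasExt_E7` : a character of degree divisible by `p` which extends to its stabiliser.
-/

set_option autoImplicit false
set_option linter.unusedSectionVars false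

open scoped ComplexConjugate
open Cfsg

namespace Cfsg.Agent.H804.Ext

open CoxeterSystem Cfsg.Agent.ChevalleyStructure.CoxeterGeom Cfsg.Agent.Tits.Roots Cfsg.Agent.Tits.Core
  Cfsg.Agent.Nodes.Reps Cfsg.Agent.Nodes.BNOf Cfsg.Agent.Nodes.OppDec Cfsg.Agent.Nodes.RGDChev
open Cfsg.Agent.KFacts.RgdAut Cfsg.Agent.KFacts.RgdDiag Cfsg.Agent.KFacts.RgdRigid
  Cfsg.Agent.KFacts.RgdField Cfsg.Agent.KFacts.RgdTau Cfsg.Agent.KFacts.RgdChevCoord
open Cfsg.Lie Cfsg.Agent.ChevalleyStructure Cfsg.Agent.ChevalleyStructure.Elts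
  Cfsg.Agent.ChevalleyStructure.NPerm Cfsg.Agent.ChevalleyStructure.CoxeterGeomTypes
open Cfsg.Agent.H576.Ext Cfsg.Agent.H53.HC
open Cfsg.Agent.ChevalleyStructure.SL2Hom (up lo)
open Cfsg.Agent.H35.ExcIdx (hpE6 hpE7)
open Matrix

section gen

variable {D : ChevalleyDatum} {l : ℕ} {M : CoxeterMatrix (Fin l)} (hp : IsType D l M) {K : Type} [Field K] [Fintype K]

include hp in
/-- the rank one groups -/
theorem exists_phi (j : Fin l) : ∃ φ : _root_.Matrix.SpecialLinearGroup (Fin 2) K →* ↥(D.group K),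
    (∀ a, φ (up a) = xc hp (sr j) a) ∧
      ∀ y, y ∈ Cfsg.Agent.KFacts.RgdChevCoord.XX D l K (-sr j) ↔ ∃ b, φ (lo b) = y := by
  have hj := simple_lt hp.inList (lt_rank hp j)
  obtain ⟨φ, hφ, hxy⟩ := Cfsg.Agent.S1030.result (F := K) D hp.inList (D.simple j) hj
  have hsx : ∀ u : K, φ (up u) = xG hp.inList (D.simple j) u := fun u =>
    Units.ext (by rw [(hxy (up u) u).1 rfl, coe_xG])
  have hsy : ∀ u : K, φ (lo u) = xG hp.inList (D.neg (D.simple j)) u := fun u =>
    Units.ext (by rw [(hxy (lo u) u).2 rfl, coe_xG])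
  have hmem : ∀ g, φ g ∈ D.group K := by
    intro g
    have h1 : φ g ∈ D.rootSubgroup K (D.simple j) ⊔ D.rootSubgroup K (D.neg (D.simple j)) := by
      rw [← hφ]; exact ⟨g, rfl⟩
    have h2 : D.rootSubgroup K (D.simple j) ⊔ D.rootSubgroup K (D.neg (D.simple j)) ≤ D.group K := by
      refine sup_le (fun y hy => ?_) (fun y hy => ?_)
      · obtain ⟨t, rfl⟩ := (mem_rootSubgroup_iff hp.inList _ _).1 hy
        exact xG_mem_group hp.inList _ t
      · obtain ⟨t, rfl⟩ := (mem_rootSubgroup_iff hp.inList _ _).1 hy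
        exact xG_mem_group hp.inList _ t
    exact h2 h1
  refine ⟨φ.codRestrict _ hmem, fun a => ?_, fun y => ?_⟩
  · apply Subtype.ext
    change φ (up a) = _
    rw [hsx, ← vec_simple hp j, coe_xc hp hj]
  · rw [Subgroup.mem_subgroupOf, XV_neg_sr hp, mem_rootSubgroup_iff hp.inList]
    constructor
    · rintro ⟨t, ht⟩
      exact ⟨t, Subtype.ext ((hsy t).trans ht.symm)⟩
    · rintro ⟨b, rfl⟩
      exact ⟨b, hsy b⟩

/-- **Field-generic characters of a node.** -/
theorem exists_gen (r : ℕ) [Fact r.Prime] [CharP K r] (j : Fin l) :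
    ∃ φ : _root_.Matrix.SpecialLinearGroup (Fin 2) K →* ↥(D.group K), (∀ a, φ (up a) = xc hp (sr j) a) ∧
      (∀ y, y ∈ Cfsg.Agent.KFacts.RgdChevCoord.XX D l K (-sr j) ↔ ∃ b, φ (lo b) = y) ∧
      ∃ θ : ↥(H53.HC.MJ M.toCoxeterSystem hp.isCartan (Cfsg.Agent.KFacts.RgdChevCoord.XX D l K) {j}) → ℂ,
        Cusp M.toCoxeterSystem hp.isCartan (Cfsg.Agent.KFacts.RgdChevCoord.XX D l K) {j} θ ∧
        Generic M.toCoxeterSystem hp.isCartan (Cfsg.Agent.KFacts.RgdChevCoord.XX D l K) φ {j} θ := by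
  have hfin := ExcRows.finite_group (K := K) D
  have hW := finite_W hp (M.toCoxeterSystem)
  have R := rgd (K := K) hp M.toCoxeterSystem r
  have C := coords (K := K) hp M.toCoxeterSystem r
  have hC := C.coord _ (isRoot_sr M.toCoxeterSystem hp.isCartan j)
  obtain ⟨φ, h1, h2⟩ := exists_phi hp (K := K) j
  have hco := co_of R (i := j) (φ := φ) (fun y => by
      rw [hC.mem y]
      exact ⟨fun ⟨a, e⟩ => ⟨a, by rw [h1]; exact e⟩, fun ⟨a, e⟩ => ⟨a, by rw [← h1]; exact e⟩⟩)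
    (fun a b hab => by
      have hab' : φ (up a) = φ (up b) := hab
      rw [h1, h1] at hab'
      exact hC.inj hab') h2
  obtain ⟨θ, h3, h4⟩ := exists_node (cs := M.toCoxeterSystem) (h := hp.isCartan) hco
  exact ⟨φ, h1, h2, θ, h3, h4⟩

theorem laced_E6 : ∀ i j : Fin 6, i ≠ j → ExcRows.m6 i j = 2 ∨ ExcRows.m6 i j = 3 := by decide +kernel
theorem laced_E7 : ∀ i j : Fin 7, i ≠ j → ExcRows.m7 i j = 2 ∨ ExcRows.m7 i j = 3 := by decide +kernel

theorem iso_E6 : ∀ c : Fin 6, c ≠ 3 → c ≠ 1 → ExcRows.m6 1 c = 2 := by decide +kernel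
theorem iso_E7 : ∀ c : Fin 7, c ≠ 3 → c ≠ 1 → ExcRows.m7 1 c = 2 := by decide +kernel

theorem uniq_E6 : ∀ a : Fin 6, a ≠ 3 → (∀ c, c ≠ 3 → c ≠ a → ExcRows.m6 a c = 2) → a = 1 := by decide +kernel
theorem uniq_E7 : ∀ a : Fin 7, a ≠ 3 → (∀ c, c ≠ 3 → c ≠ a → ExcRows.m7 a c = 2) → a = 1 := by decide +kernel

theorem sym_E6 {σ : Equiv.Perm (Fin 6)} (hσ : ∀ i j, CoxeterMatrix.E₆ (σ i) (σ j) = CoxeterMatrix.E₆ i j) :
    σ 3 = 3 ∧ σ 1 = 1 := by
  have h1 : ∀ i, ![2, 3, 4, 5, 4, 2] (σ i) = ![2, 3, 4, 5, 4, 2] i := by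
    refine Cfsg.Agent.CpAut.RgdUntw.inv_step hσ (g := ![1, 1, 2, 3, 2, 1]) ?_ (by decide)
    exact Cfsg.Agent.CpAut.RgdUntw.inv_step hσ (g := fun _ => 1) (fun _ => rfl) (by decide)
  have h2 : ∀ i : Fin 6, (![2, 3, 4, 5, 4, 2] i = 5 → i = 3) ∧ (![2, 3, 4, 5, 4, 2] i = 3 → i = 1) := by decide
  exact ⟨(h2 _).1 (h1 3), (h2 _).2 (h1 1)⟩

theorem sym_E7 {σ : Equiv.Perm (Fin 7)} (hσ : ∀ i j, CoxeterMatrix.E₇ (σ i) (σ j) = CoxeterMatrix.E₇ i j) :
    σ 3 = 3 ∧ σ 1 = 1 := by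
  have h0 : ∀ i, ![1, 1, 2, 3, 2, 2, 1] (σ i) = ![1, 1, 2, 3, 2, 2, 1] i :=
    Cfsg.Agent.CpAut.RgdUntw.inv_step hσ (g := fun _ => 1) (fun _ => rfl) (by decide +kernel)
  have h1 : ∀ i, ![2, 3, 4, 5, 5, 3, 2] (σ i) = ![2, 3, 4, 5, 5, 3, 2] i :=
    Cfsg.Agent.CpAut.RgdUntw.inv_step hσ (g := ![1, 1, 2, 3, 2, 2, 1]) h0 (by decide +kernel)
  have h2 : ∀ i : Fin 7, (![1, 1, 2, 3, 2, 2, 1] i = 3 → i = 3) ∧
      (![2, 3, 4, 5, 5, 3, 2] i = 3 → ![1, 1, 2, 3, 2, 2, 1] i = 1 → i = 1) := by decide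
  exact ⟨(h2 _).1 (h0 3), (h2 _).2 (h1 1) (h0 1)⟩

theorem sqf_mul {k : ℕ} (hk : k ∣ 3) : Squarefree (2 * k) := by
  rcases (Nat.dvd_prime Nat.prime_three).1 hk with rfl | rfl
  · exact Nat.prime_two.squarefree
  · exact (Nat.squarefree_mul (by norm_num)).2 ⟨Nat.prime_two.squarefree, Nat.prime_three.squarefree⟩

end gen

section rows

variable {K : Type} [Field K] [Fintype K] {r f : ℕ} (hr : r.Prime) (hf : f ≠ 0)
  (hK : Fintype.card K = r ^ f) [CharP K r]

include hr hf hK in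
/-- **`E₆(q)`.** -/
theorem ext_E6 [IsSimpleGroup ↥(chevE6.group K)] (hc : ∃ a b : ↥(chevE6.group K), a * b ≠ b * a) {p : ℕ}
    (hp : p.Prime) (hpr : p ≠ r) (hd : p ∣ Nat.card ↥(chevE6.group K)) : HasExt p ↥(chevE6.group K) := by
  have hfr : Fact r.Prime := ⟨hr⟩
  have hfin := ExcRows.finite_group (K := K) chevE6
  have D := Cfsg.Agent.H35.ExcIdx.data_E6_3 hr hf hK
  have hW := D.fin
  have hG1 : RGD.Sup (Cfsg.Agent.KFacts.RgdChevCoord.XX chevE6 6 K)
      {x | IsRoot CoxeterMatrix.E₆.toCoxeterSystem hpE6.isCartan x} = ⊤ := G1_eq_top hpE6 CoxeterMatrix.E₆.toCoxeterSystem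
  obtain ⟨φ, hup, hlo, θ, hθ, hgen⟩ := exists_gen hpE6 (K := K) r 1
  obtain ⟨Ψ, hΨ, ⟨N, hN, hdiv⟩, hrig⟩ := big_of_two_aut hr (Cfsg.Agent.H35.ExcIdx.two_le hr hf) D (N := {1})
    ExcRows.compl6 (fun i hi i' hi' => ExcRows.or6a i (by simpa using hi) i' (by simpa using hi'))
    (fun i hi i' hi' => ExcRows.or6b i (by simpa using hi) i' (by simpa using hi'))
    (by decide +kernel) (by decide +kernel) (by decide +kernel) (by decide +kernel) (by decide +kernel)
    (by decide +kernel) ExcRows.un6 (ExcIM.in_A2 D (by decide +kernel) rfl) (ExcIM.in_pair D (by decide +kernel)) hθ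
  have hdeg : p ∣ charDegree Ψ := by
    have h1 := Cfsg.Agent.Blocks.Basic.irr_one_eq_charDegree hΨ
    rw [hN] at h1
    have h2 : N = charDegree Ψ := by exact_mod_cast h1
    rw [← h2]
    exact hdiv p hp hd hpr
  have hZ := KFacts.RgdLieCharP.center_eq_bot hc
  have hcard := Cfsg.Agent.H70.OutE.card_out_E6 (p := r) hK
  have hcardF : Nat.card (K ≃+* K) = f :=
    Cfsg.Agent.Lib.FieldAutCard.card_ringAut (Nat.one_le_iff_ne_zero.2 hf) hK
  have hconn := KFacts.RgdLieCharP.conn_of_simple D.rgd hG1 hZ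
  have C := coords (K := K) hpE6 CoxeterMatrix.E₆.toCoxeterSystem r
  have H := coroots (K := K) hpE6 CoxeterMatrix.E₆.toCoxeterSystem r
  refine hasExt_of_coords D.rgd hG1 hZ C H hconn (J := {i | i ≠ 3}) (i₀ := 1) (by decide)
    (fun c hc' h1 => iso_E6 c hc' h1) (fun a ha h1 => uniq_E6 a ha h1) ?_ hup hlo hgen hΨ hrig hdeg ?_
    (m := 2 * Nat.gcd 3 (r ^ f - 1)) (by rw [hcard, hcardF]) (sqf_mul (Nat.gcd_dvd_left _ _))
  · intro σ hσ
    obtain ⟨h1, h2⟩ := sym_E6 hσ
    refine ⟨cartan_of_laced hpE6.isCartan laced_E6 hσ, fun i => not_congr ?_, h2⟩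
    constructor
    · intro h3
      exact σ.injective (h3.trans h1.symm)
    · rintro rfl
      exact h1
  · intro τ
    refine ⟨Cfsg.Agent.CpAut.RgdUntw.fld chevE6 τ, 1, Cfsg.Agent.CpAut.RgdConj.tau_of_std D.rgd hG1 C H hconn ?_⟩
    intro v hv a
    obtain ⟨s, hs, rfl⟩ := (isRoot_iff hpE6 CoxeterMatrix.E₆.toCoxeterSystem v).1 hv
    exact Cfsg.Agent.CpAut.RgdUntw.fld_xc hpE6 τ hs a

include hr hf hK in
/-- **`E₇(q)`.** -/
theorem ext_E7 [IsSimpleGroup ↥(chevE7.group K)] (hc : ∃ a b : ↥(chevE7.group K), a * b ≠ b * a) {p : ℕ}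
    (hp : p.Prime) (hpr : p ≠ r) (hd : p ∣ Nat.card ↥(chevE7.group K)) : HasExt p ↥(chevE7.group K) := by
  have hfr : Fact r.Prime := ⟨hr⟩
  have hfin := ExcRows.finite_group (K := K) chevE7
  have D := Cfsg.Agent.H35.ExcIdx.data_E7_3 hr hf hK
  have hW := D.fin
  have hG1 : RGD.Sup (Cfsg.Agent.KFacts.RgdChevCoord.XX chevE7 7 K)
      {x | IsRoot CoxeterMatrix.E₇.toCoxeterSystem hpE7.isCartan x} = ⊤ := G1_eq_top hpE7 CoxeterMatrix.E₇.toCoxeterSystem
  obtain ⟨φ, hup, hlo, θ, hθ, hgen⟩ := exists_gen hpE7 (K := K) r 1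
  obtain ⟨η, hη⟩ : In hpE7.isCartan (Cfsg.Agent.H35.ExcIdx.XX chevE7 7 K) {4, 5, 6} := by
    rw [← ExcRows.range_k7]; exact ExcRows.in_chain D (by norm_num) ExcRows.k7 ExcRows.hk7
  obtain ⟨θ', hθ', hval⟩ := hθ.exists_prod D.rgd (K := {1}) (K' := {4, 5, 6})
    (orth_of hpE7.isCartan fun i hi i' hi' => ExcRows.or7b i (by simpa using hi) i' (by simpa using hi')) hη
  have hlies : Lies θ θ' := Lies.prod_left hη.irr (Lies.refl θ) hval
  obtain ⟨Ψ, hΨ, ⟨N, hN, hdiv⟩, hrig⟩ := big_of_one_aut hr (Cfsg.Agent.H35.ExcIdx.two_le hr hf) D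
    (K' := {1} ∪ {4, 5, 6}) ExcRows.compl7
    (fun i hi i' hi' => ExcRows.or7a i (by simpa using hi) i' (by simpa using hi'))
    (by decide +kernel) (by decide +kernel) (by decide +kernel) ExcRows.un7
    (ExcIM.in_A2 D (by decide +kernel) rfl) hθ' hlies
  have hdeg : p ∣ charDegree Ψ := by
    have h1 := Cfsg.Agent.Blocks.Basic.irr_one_eq_charDegree hΨ
    rw [hN] at h1
    have h2 : N = charDegree Ψ := by exact_mod_cast h1
    rw [← h2]
    exact hdiv p hp hd hpr
  have hZ := KFacts.RgdLieCharP.center_eq_bot hc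
  have hcard := Cfsg.Agent.H70.OutE.card_out_E7 (p := r) hK
  have hcardF : Nat.card (K ≃+* K) = f :=
    Cfsg.Agent.Lib.FieldAutCard.card_ringAut (Nat.one_le_iff_ne_zero.2 hf) hK
  have hconn := KFacts.RgdLieCharP.conn_of_simple D.rgd hG1 hZ
  have C := coords (K := K) hpE7 CoxeterMatrix.E₇.toCoxeterSystem r
  have H := coroots (K := K) hpE7 CoxeterMatrix.E₇.toCoxeterSystem r
  refine hasExt_of_coords D.rgd hG1 hZ C H hconn (J := {i | i ≠ 3}) (i₀ := 1) (by decide)
    (fun c hc' h1 => iso_E7 c hc' h1) (fun a ha h1 => uniq_E7 a ha h1) ?_ hup hlo hgen hΨ hrig hdeg ?_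
    (m := Nat.gcd 2 (r ^ f - 1)) (by rw [hcard, hcardF])
    (Nat.prime_two.squarefree.squarefree_of_dvd (Nat.gcd_dvd_left _ _))
  · intro σ hσ
    obtain ⟨h1, h2⟩ := sym_E7 hσ
    refine ⟨cartan_of_laced hpE7.isCartan laced_E7 hσ, fun i => not_congr ?_, h2⟩
    constructor
    · intro h3
      exact σ.injective (h3.trans h1.symm)
    · rintro rfl
      exact h1
  · intro τ
    refine ⟨Cfsg.Agent.CpAut.RgdUntw.fld chevE7 τ, 1, Cfsg.Agent.CpAut.RgdConj.tau_of_std D.rgd hG1 C H hconn ?_⟩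
    intro v hv a
    obtain ⟨s, hs, rfl⟩ := (isRoot_iff hpE7 CoxeterMatrix.E₇.toCoxeterSystem v).1 hv
    exact Cfsg.Agent.CpAut.RgdUntw.fld_xc hpE7 τ hs a

end rows

section main

universe u

theorem exists_ne_of {G : Type*} [Group G] (h : ¬ IsMulCommutative G) : ∃ a b : G, a * b ≠ b * a := by
  by_contra hcon
  push Not at hcon
  exact h ⟨⟨hcon⟩⟩

/-- **S4832 for `E₆(q)`.** -/
theorem hasExt_E6 {S : Type u} [Group S] (h : Lie.IsoChevE6 S) {p : ℕ} [Fact p.Prime] (hd : p ∣ Nat.card S) :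
    HasExt p S := by
  obtain ⟨F, _, _, ⟨e⟩⟩ := h
  refine HasExt.of_equiv e ?_
  obtain ⟨r, f, hr, hf, hF, hch⟩ := ExcIM.exists_prime_pow F
  have hfin := ExcRows.finite_group (K := F) chevE6
  obtain ⟨hs, hna⟩ := Cfsg.Agent.S1054.result (F := F) chevE6 (by simp)
  have hd' : p ∣ Nat.card ↥(chevE6.group F) := by rwa [← Nat.card_congr e.toEquiv]
  by_cases hpr : p = r
  · subst hpr
    refine hasExt_char ?_ hd'
    have h1 : IsExceptionalChevChar p ↥(chevE6.group F) :=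
      ⟨F, inferInstance, inferInstance, inferInstance, Or.inr (Or.inr (Or.inl ⟨MulEquiv.refl _⟩))⟩
    unfold IsLieTypeChar
    (clear * - h1; tauto)
  · exact ext_E6 hr hf hF (exists_ne_of hna) Fact.out hpr hd'

/-- **S4832 for `E₇(q)`.** -/
theorem hasExt_E7 {S : Type u} [Group S] (h : Lie.IsoE7 S) {p : ℕ} [Fact p.Prime] (hd : p ∣ Nat.card S) :
    HasExt p S := by
  obtain ⟨F, _, _, ⟨e⟩⟩ := h
  refine HasExt.of_equiv e ?_
  obtain ⟨r, f, hr, hf, hF, hch⟩ := ExcIM.exists_prime_pow F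
  have hfin := ExcRows.finite_group (K := F) chevE7
  obtain ⟨hs, hna⟩ := Cfsg.Agent.S1054.result (F := F) chevE7 (by simp)
  have hd' : p ∣ Nat.card ↥(chevE7.group F) := by rwa [← Nat.card_congr e.toEquiv]
  by_cases hpr : p = r
  · subst hpr
    refine hasExt_char ?_ hd'
    have h1 : IsExceptionalChevChar p ↥(chevE7.group F) :=
      ⟨F, inferInstance, inferInstance, inferInstance, Or.inr (Or.inr (Or.inr (Or.inl ⟨MulEquiv.refl _⟩)))⟩
    unfold IsLieTypeChar
    (clear * - h1; tauto)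
  · exact ext_E7 hr hf hF (exists_ne_of hna) Fact.out hpr hd'

end main

end Cfsg.Agent.H804.Ext
end
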